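import Mathlib

/-!
# Automorphisms of the complement of a separable point of degree two on the projective line
-/

open Polynomial TensorProduct
open scoped LaurentPolynomial

universe u

namespace Groth.Agent.ConicAutLib

theorem laurent_isUnit {L : Type u} [Field L] {f : L[T;T⁻¹]} (h : IsUnit f) :
    ∃ (r : L) (n : ℤ), r ≠ 0 ∧ f = LaurentPolynomial.C r * LaurentPolynomial.T n := by
  obtain ⟨g, hg⟩ := h.exists_right_inv
  obtain ⟨m, p, hp⟩ := f.exists_T_pow
  obtain ⟨k, p', hp'⟩ := g.exists_T_pow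
  have h1 : toLaurent (p * p') = toLaurent (X ^ (m + k)) := by
    rw [map_mul, hp, hp', Polynomial.toLaurent_X_pow, mul_mul_mul_comm, hg, one_mul, ← LaurentPolynomial.T_add]
    norm_cast
  have h2 : p ∣ X ^ (m + k) := ⟨p', (toLaurent_injective h1).symm⟩
  obtain ⟨i, -, hi⟩ := (dvd_prime_pow prime_X _).1 h2
  obtain ⟨v, hv⟩ := hi.symm
  obtain ⟨r, hr, hrv⟩ := Polynomial.isUnit_iff.1 v.isUnit
  refine ⟨r, (i : ℤ) - m, hr.ne_zero, ?_⟩
  have : f = toLaurent p * LaurentPolynomial.T (-(m : ℤ)) := by
    rw [hp, mul_assoc, ← LaurentPolynomial.T_add, add_neg_cancel, LaurentPolynomial.T_zero, mul_one]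
  rw [this, ← hv, ← hrv, map_mul, Polynomial.toLaurent_X_pow, Polynomial.toLaurent_C, sub_eq_add_neg,
    LaurentPolynomial.T_add]
  ring

theorem unit_T_zpow {L : Type u} [Field L] (n : ℤ) :
    (((LaurentPolynomial.isUnit_T (R := L) 1).unit ^ n : L[T;T⁻¹]ˣ) : L[T;T⁻¹]) = LaurentPolynomial.T n := by
  induction n with
  | zero => simp
  | succ i ih => rw [zpow_add_one, Units.val_mul, ih, IsUnit.unit_spec, ← LaurentPolynomial.T_add]
  | pred i ih =>
    rw [zpow_sub_one, Units.val_mul, ih]
    refine (LaurentPolynomial.isUnit_T (R := L) 1).mul_right_cancel ?_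
    rw [mul_assoc, IsUnit.val_inv_mul, mul_one, ← LaurentPolynomial.T_add, sub_add_cancel]

theorem AddMonoidAlgebra.single_inj_iff_aux {L : Type u} [Field L] {m n : ℤ} {a b : L}
    (h : (AddMonoidAlgebra.single m a : L[T;T⁻¹]) = AddMonoidAlgebra.single n b) :
    Finsupp.single m a = Finsupp.single n b := congrArg AddMonoidAlgebra.coeff h

theorem pow_two_eq_one_of_finite (K : Type u) [Field K]
    (hK : ∀ n : ℕ, 0 < n → (Polynomial.X ^ n - 1 : Polynomial K).Splits)
    {L : Type u} [Field L] [Algebra K L] (σ : L →ₐ[K] L) (c : L) (hc : c * σ c = 1) {n : ℕ} (hn : 0 < n)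
    (hcn : c ^ n = 1) : c ^ 2 = 1 := by
  obtain ⟨r, hr⟩ := (hK n hn).mem_range_of_isRoot (f := X ^ n - 1) (i := algebraMap K L)
    (by rw [← Polynomial.C_1]; exact X_pow_sub_C_ne_zero hn (1 : K)) (x := c) (by simp [hcn])
  rw [← hr, σ.commutes, hr] at hc
  rw [pow_two, hc]

variable {K : Type u} [Field K]
variable {A : Type u} [CommRing A] [Algebra K A] (a b c : K) (X₀ Y₀ Z₀ : A)

theorem core (hK : ∀ n : ℕ, 0 < n → (Polynomial.X ^ n - 1 : Polynomial K).Splits)
    (hf : ∀ r : K, a * r ^ 2 + b * r + c ≠ 0) (hd : b ^ 2 - 4 * a * c ≠ 0) (ha : a ≠ 0)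
    (hrel : X₀ * Y₀ = Z₀ ^ 2) (hone : algebraMap K A a * X₀ + algebraMap K A b * Z₀ + algebraMap K A c * Y₀ = 1)
    (hgen : Algebra.adjoin K ({X₀, Y₀, Z₀} : Set A) = ⊤)
    (hhom : ∀ (L : Type u) [Field L] [Algebra K L] (x y : L[T;T⁻¹]),
      IsUnit (algebraMap K L[T;T⁻¹] a * x ^ 2 + algebraMap K L[T;T⁻¹] b * (x * y) +
        algebraMap K L[T;T⁻¹] c * y ^ 2) →
      ∃ φ : A →ₐ[K] L[T;T⁻¹],
        φ X₀ * (algebraMap K L[T;T⁻¹] a * x ^ 2 + algebraMap K L[T;T⁻¹] b * (x * y) +
          algebraMap K L[T;T⁻¹] c * y ^ 2) = x ^ 2 ∧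
        φ Y₀ * (algebraMap K L[T;T⁻¹] a * x ^ 2 + algebraMap K L[T;T⁻¹] b * (x * y) +
          algebraMap K L[T;T⁻¹] c * y ^ 2) = y ^ 2 ∧
        φ Z₀ * (algebraMap K L[T;T⁻¹] a * x ^ 2 + algebraMap K L[T;T⁻¹] b * (x * y) +
          algebraMap K L[T;T⁻¹] c * y ^ 2) = x * y)
    (G : Subgroup (A ≃ₐ[K] A)) [Finite G] :
    (∀ g ∈ G, g ^ 2 = 1) ∧ Nat.card G ≤ 4 := by
  classical
  -- the quadratic extension
  let f : K[X] := X ^ 2 + C (b / a) * X + C (c / a)
  have hfdeg : f.natDegree = 2 := by simp only [f]; compute_degree!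
  have hroot : ∀ r : K, ¬ f.IsRoot r := fun r hr => hf r (by
    have : r ^ 2 + b / a * r + c / a = 0 := by simpa [f, IsRoot.def] using hr
    field_simp at this
    linear_combination this)
  haveI : Fact (Irreducible f) := ⟨(irreducible_iff_roots_eq_zero_of_degree_le_three (by omega) (by omega)).2
    (Multiset.eq_zero_of_forall_notMem fun r hr => hroot r (isRoot_of_mem_roots hr))⟩
  let L := AdjoinRoot f
  let α : L := AdjoinRoot.root f
  let β : L := -algebraMap K L (b / a) - α
  have hα : α ^ 2 + algebraMap K L (b / a) * α + algebraMap K L (c / a) = 0 := by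
    have := AdjoinRoot.eval₂_root f
    simp only [f, eval₂_add, eval₂_X_pow, eval₂_mul, eval₂_C, eval₂_X] at this
    rwa [← AdjoinRoot.algebraMap_eq] at this
  have hsum : algebraMap K L b = -(algebraMap K L a * (α + β)) := by
    rw [show α + β = -algebraMap K L (b / a) by simp only [β]; ring, mul_neg, neg_neg, ← map_mul,
      mul_div_cancel₀ _ ha]
  have hprod : algebraMap K L c = algebraMap K L a * (α * β) := by
    rw [show α * β = algebraMap K L (c / a) by simp only [β]; linear_combination -hα, ← map_mul,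
      mul_div_cancel₀ _ ha]
  have ha' : algebraMap K L a ≠ 0 := by simpa using ha
  have hne : α - β ≠ 0 := by
    intro h0
    apply hd
    apply (algebraMap K L).injective
    rw [map_sub, map_pow, map_mul, map_mul, map_ofNat, map_zero, hsum, hprod, sub_eq_zero.1 h0]
    ring
  have hβ : f.eval₂ (Algebra.ofId K L) β = 0 := by
    show f.eval₂ (algebraMap K L) β = 0
    simp only [f, eval₂_add, eval₂_X_pow, eval₂_mul, eval₂_C, eval₂_X, β]
    linear_combination hα
  let σ : L →ₐ[K] L := AdjoinRoot.liftAlgHom f (Algebra.ofId K L) β hβ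
  have hσα : σ α = β := AdjoinRoot.liftAlgHom_root _ _ _ _
  have hσβ : σ β = α := by
    rw [map_sub, map_neg, σ.commutes, hσα]; simp only [β]; ring
  -- the base change
  let B := L ⊗[K] A
  let ι : A →ₐ[K] B := Algebra.TensorProduct.includeRight
  let al : L → B := algebraMap L B
  have hal : ∀ k : K, ι (algebraMap K A k) = al (algebraMap K L k) := fun k => by
    rw [AlgHom.commutes]; exact IsScalarTower.algebraMap_apply K L B k
  have hrelB : ι X₀ * ι Y₀ = ι Z₀ ^ 2 := by rw [← map_mul, hrel, map_pow]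
  have honeB : al (algebraMap K L a) * ι X₀ + al (algebraMap K L b) * ι Z₀ +
      al (algebraMap K L c) * ι Y₀ = 1 := by
    rw [← hal, ← hal, ← hal, ← map_mul, ← map_mul, ← map_mul, ← map_add, ← map_add, hone, map_one]
  simp only [hsum, hprod, al, map_neg, map_mul, map_add] at honeB
  let u : B := al (algebraMap K L a) * (ι X₀ - 2 * al β * ι Z₀ + al β ^ 2 * ι Y₀)
  let v : B := al (algebraMap K L a) * (ι X₀ - 2 * al α * ι Z₀ + al α ^ 2 * ι Y₀)
  have huv : u * v = 1 := by
    simp only [u, v, al]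
    linear_combination
      ((algebraMap L B (algebraMap K L a)) ^ 2 * (algebraMap L B α - algebraMap L B β) ^ 2) * hrelB +
      (algebraMap L B (algebraMap K L a) * (ι X₀ - (algebraMap L B α + algebraMap L B β) * ι Z₀ +
        algebraMap L B α * algebraMap L B β * ι Y₀) + 1) * honeB
  let uu : Bˣ := ⟨u, v, huv, by rw [mul_comm]; exact huv⟩
  let θ : L[T;T⁻¹] →+* B := LaurentPolynomial.eval₂ (algebraMap L B) uu
  -- the map to Laurent polynomials
  let P := L[T;T⁻¹]
  let y₀ : P := LaurentPolynomial.C (α - β)⁻¹ * (LaurentPolynomial.T 1 - 1)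
  let x₀ : P := 1 + LaurentPolynomial.C α * y₀
  have hC : ∀ k : K, algebraMap K P k = LaurentPolynomial.C (algebraMap K L k) := fun k => rfl
  have hinv : LaurentPolynomial.C (α - β) * LaurentPolynomial.C (α - β)⁻¹ = (1 : P) := by
    rw [← map_mul, mul_inv_cancel₀ hne, map_one]
  rw [map_sub] at hinv
  have hxa : x₀ - LaurentPolynomial.C α * y₀ = 1 := by simp only [x₀]; ring
  have hxb : x₀ - LaurentPolynomial.C β * y₀ = LaurentPolynomial.T 1 := by
    simp only [x₀, y₀]
    linear_combination (LaurentPolynomial.T 1 - 1 : P) * hinv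
  have hq : algebraMap K P a * x₀ ^ 2 + algebraMap K P b * (x₀ * y₀) + algebraMap K P c * y₀ ^ 2 =
      LaurentPolynomial.C (algebraMap K L a) * LaurentPolynomial.T 1 := by
    rw [hC, hC, hC, hsum, hprod, ← hxb, map_neg, map_mul, map_mul, map_add, map_mul]
    linear_combination (LaurentPolynomial.C (algebraMap K L a) * (x₀ - LaurentPolynomial.C β * y₀)) * hxa
  have hqu : IsUnit (LaurentPolynomial.C (algebraMap K L a) * LaurentPolynomial.T 1 : P) :=
    ((IsUnit.mk0 _ ha').map _).mul (LaurentPolynomial.isUnit_T 1)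
  obtain ⟨φ, hφX, hφY, hφZ⟩ := hhom L x₀ y₀ (by rw [hq]; exact hqu)
  rw [hq] at hφX hφY hφZ
  let ψ : B →ₐ[L] P := Algebra.TensorProduct.lift (Algebra.ofId L P) φ fun _ _ => Commute.all _ _
  have hψι : ∀ x : A, ψ (ι x) = φ x := fun x => by
    show ψ ((1 : L) ⊗ₜ[K] x) = φ x
    rw [Algebra.TensorProduct.lift_tmul, map_one, one_mul]
  have hψal : ∀ l : L, ψ (al l) = LaurentPolynomial.C l := fun l => ψ.commutes l
  have hψu : ψ u = LaurentPolynomial.T 1 := by
    simp only [u, map_mul, map_add, map_sub, map_pow, map_ofNat, hψι, hψal]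
    refine hqu.mul_right_cancel ?_
    linear_combination LaurentPolynomial.C (algebraMap K L a) * hφX -
      2 * LaurentPolynomial.C (algebraMap K L a) * LaurentPolynomial.C β * hφZ +
      LaurentPolynomial.C (algebraMap K L a) * LaurentPolynomial.C β ^ 2 * hφY +
      LaurentPolynomial.C (algebraMap K L a) * (x₀ - LaurentPolynomial.C β * y₀ + LaurentPolynomial.T 1) * hxb
  have hψθ : ∀ p, ψ (θ p) = p := by
    intro p
    induction p using LaurentPolynomial.induction_on' with
    | add p q hp hq => rw [map_add, map_add, hp, hq]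
    | C_mul_T n r =>
      simp only [θ, map_mul, LaurentPolynomial.eval₂_C, LaurentPolynomial.eval₂_T]
      rw [hψal]
      congr 1
      have h1 : Units.map (ψ : B →* P) uu = (LaurentPolynomial.isUnit_T (R := L) 1).unit := Units.ext hψu
      have h2 := congrArg (fun w : Pˣ => ((w ^ n : Pˣ) : P)) h1
      rw [← map_zpow] at h2
      exact h2.trans (unit_T_zpow n)
  -- surjectivity
  have hinvB : al (α - β) * al (α - β)⁻¹ = 1 := by
    simp only [al]; rw [← map_mul, mul_inv_cancel₀ hne, map_one]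
  have hainvB : al (algebraMap K L a) * al (algebraMap K L a)⁻¹ = 1 := by
    simp only [al]; rw [← map_mul, mul_inv_cancel₀ ha', map_one]
  have hu_mem : u ∈ θ.range := ⟨LaurentPolynomial.T 1, by simp [θ, uu]⟩
  have hv_mem : v ∈ θ.range := ⟨LaurentPolynomial.T (-1), by simp [θ, uu]⟩
  have hal_mem : ∀ l, al l ∈ θ.range := fun l => ⟨LaurentPolynomial.C l, by simp [θ, al]⟩
  have hY : ι Y₀ = (u + v - 2) * al (algebraMap K L a)⁻¹ * al (α - β)⁻¹ ^ 2 := by
    simp only [u, v, al, map_sub] at hinvB hainvB ⊢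
    generalize algebraMap L B (α - β)⁻¹ = d at *
    linear_combination (-(ι Y₀) * (1 + (algebraMap L B α - algebraMap L B β) * d) *
        (algebraMap L B (algebraMap K L a) * algebraMap L B (algebraMap K L a)⁻¹)) * hinvB +
      (-ι Y₀) * hainvB + (-2 * algebraMap L B (algebraMap K L a)⁻¹ * d ^ 2) * honeB
  have hZ : ι Z₀ = (u - 1) * al (algebraMap K L a)⁻¹ * al (α - β)⁻¹ + al β * ι Y₀ := by
    simp only [u, al, map_sub] at hinvB hainvB ⊢
    generalize algebraMap L B (α - β)⁻¹ = d at *
    linear_combination (-(ι Z₀ - algebraMap L B β * ι Y₀) *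
        (algebraMap L B (algebraMap K L a) * algebraMap L B (algebraMap K L a)⁻¹)) * hinvB +
      (-(ι Z₀ - algebraMap L B β * ι Y₀)) * hainvB + (-algebraMap L B (algebraMap K L a)⁻¹ * d) * honeB
  have hX : ι X₀ = al (algebraMap K L a)⁻¹ + al (α + β) * ι Z₀ - al (α * β) * ι Y₀ := by
    simp only [al, map_add, map_mul] at hainvB ⊢
    linear_combination (-(ι X₀ - (algebraMap L B α + algebraMap L B β) * ι Z₀ +
      algebraMap L B α * algebraMap L B β * ι Y₀)) * hainvB + algebraMap L B (algebraMap K L a)⁻¹ * honeB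
  have h2mem : (2 : B) ∈ θ.range := ⟨2, map_ofNat θ 2⟩
  have hYm : ι Y₀ ∈ θ.range := hY ▸ mul_mem (mul_mem (sub_mem (add_mem hu_mem hv_mem) h2mem) (hal_mem _))
    (pow_mem (hal_mem _) 2)
  have hZm : ι Z₀ ∈ θ.range := hZ ▸ add_mem (mul_mem (mul_mem (sub_mem hu_mem (one_mem _)) (hal_mem _))
    (hal_mem _)) (mul_mem (hal_mem _) hYm)
  have hXm : ι X₀ ∈ θ.range := hX ▸ sub_mem (add_mem (hal_mem _) (mul_mem (hal_mem _) hZm))
    (mul_mem (hal_mem _) hYm)
  have hθ : Function.Surjective θ := by
    intro z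
    induction z using TensorProduct.induction_on with
    | zero => exact ⟨0, map_zero θ⟩
    | add z w hz hw =>
      obtain ⟨p, rfl⟩ := hz
      obtain ⟨q, rfl⟩ := hw
      exact ⟨p + q, map_add θ p q⟩
    | tmul l x =>
      suffices ι x ∈ θ.range by
        have e : al l * ι x = l ⊗ₜ[K] x := by
          show (algebraMap L B l) * ((1 : L) ⊗ₜ[K] x) = l ⊗ₜ[K] x
          rw [Algebra.TensorProduct.algebraMap_apply]
          show (l ⊗ₜ[K] (1 : A)) * ((1 : L) ⊗ₜ[K] x) = _
          rw [Algebra.TensorProduct.tmul_mul_tmul, mul_one, one_mul]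
        exact e ▸ mul_mem (hal_mem l) this
      have hx : x ∈ Algebra.adjoin K ({X₀, Y₀, Z₀} : Set A) := hgen ▸ Algebra.mem_top
      induction hx using Algebra.adjoin_induction with
      | mem x hx => rcases hx with rfl | rfl | rfl <;> assumption
      | algebraMap r => rw [hal]; exact hal_mem _
      | add x y _ _ h₁ h₂ => rw [map_add]; exact add_mem h₁ h₂
      | mul x y _ _ h₁ h₂ => rw [map_mul]; exact mul_mem h₁ h₂
  have hψinj : Function.Injective ψ := fun x y h => by
    obtain ⟨p, rfl⟩ := hθ x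
    obtain ⟨q, rfl⟩ := hθ y
    rw [hψθ, hψθ] at h
    rw [h]
  -- the conjugation
  let s : B →ₐ[K] B := Algebra.TensorProduct.map σ (AlgHom.id K A)
  have hsι : ∀ x, s (ι x) = ι x := fun x => by
    show s ((1 : L) ⊗ₜ[K] x) = (1 : L) ⊗ₜ[K] x
    rw [Algebra.TensorProduct.map_tmul, map_one, AlgHom.id_apply]
  have hsal : ∀ l, s (al l) = al (σ l) := fun l => by
    show s (l ⊗ₜ[K] (1 : A)) = σ l ⊗ₜ[K] (1 : A)
    rw [Algebra.TensorProduct.map_tmul, map_one]
  have hsu : s u = v := by
    simp only [u, v, map_mul, map_add, map_sub, map_pow, map_ofNat, hsι, hsal, hσβ, σ.commutes]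
  have hal_inj : Function.Injective al := fun l l' h => by
    have := congrArg ψ h
    rw [hψal, hψal] at this
    exact Function.Injective.eq_iff (fun p q hpq => by simpa using congrArg (LaurentPolynomial.eval₂ (RingHom.id L) 1) hpq) |>.1 this
  -- extension of automorphisms
  let E : (A ≃ₐ[K] A) → (B ≃ₐ[L] B) := fun g => Algebra.TensorProduct.congr AlgEquiv.refl g
  have hEι : ∀ g x, E g (ι x) = ι (g x) := fun g x => rfl
  have hEmul : ∀ g h z, E (g * h) z = E g (E h z) := fun g h z => by
    induction z using TensorProduct.induction_on with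
    | zero => simp
    | tmul l x => rfl
    | add z w hz hw => rw [map_add, map_add, map_add, hz, hw]
  have hE1 : ∀ z, E 1 z = z := fun z => by
    induction z using TensorProduct.induction_on with
    | zero => simp
    | tmul l x => rfl
    | add z w hz hw => rw [map_add, hz, hw]
  have hEs : ∀ g z, E g (s z) = s (E g z) := fun g z => by
    induction z using TensorProduct.induction_on with
    | zero => simp
    | tmul l x => rfl
    | add z w hz hw => simp only [map_add, hz, hw]
  have hι_inj : Function.Injective ι :=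
    Algebra.TensorProduct.includeRight_injective (algebraMap K L).injective
  have hfix : ∀ g, E g u = u → g = 1 := fun g hg => by
    refine AlgEquiv.ext fun x => hι_inj ?_
    rw [← hEι]
    obtain ⟨p, hp⟩ := hθ (ι x)
    rw [← hp]
    have : (E g : B →+* B).comp θ = θ := IsLocalization.ringHom_ext (Submonoid.powers (X : L[X]))
      (Polynomial.ringHom_ext (fun r => by
        show E g (θ (Polynomial.toLaurent (Polynomial.C r))) = θ _
        simp [θ, LaurentPolynomial.algebraMap_eq_toLaurent]) (by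
        show E g (θ (Polynomial.toLaurent Polynomial.X)) = θ _
        simp [θ, LaurentPolynomial.algebraMap_eq_toLaurent, uu, hg]))
    exact (DFunLike.congr_fun this p).trans hp
  -- the action on the coordinate
  have key : ∀ g, ∃ cg : L, ∃ n : ℤ, cg ≠ 0 ∧ E g u = al cg * ((uu ^ n : Bˣ) : B) := fun g => by
    obtain ⟨cg, n, hcg, h⟩ := laurent_isUnit ((uu.isUnit.map (E g)).map ψ)
    refine ⟨cg, n, hcg, hψinj ?_⟩
    rw [show ψ (E g u) = _ from h, map_mul, hψal]
    congr 1
    have := hψθ (LaurentPolynomial.T n)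
    simpa [θ] using this.symm
  have pm : ∀ g, ∃ cg : L, cg * σ cg = 1 ∧ (E g u = al cg * u ∨ E g u = al cg * v) := fun g => by
    obtain ⟨cg, n, hcg, h⟩ := key g
    obtain ⟨cd, m, -, h'⟩ := key g⁻¹
    have hn : n = 1 ∨ n = -1 := by
      have h1 : E g (E g⁻¹ u) = u := by rw [← hEmul, mul_inv_cancel, hE1]
      have h2 : E g ((uu ^ m : Bˣ) : B) = al cg ^ m.natAbs * 0 + ((Units.map (E g : B →* B) uu ^ m : Bˣ) : B) := by
        rw [mul_zero, zero_add, ← map_zpow]; rfl
      rw [mul_zero, zero_add] at h2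
      have hcU : IsUnit (al cg) := (IsUnit.mk0 _ hcg).map (algebraMap L B)
      have h3 : Units.map (E g : B →* B) uu = Units.map (algebraMap L B : L →* B) (Units.mk0 cg hcg) * uu ^ n :=
        Units.ext h
      rw [h', map_mul, show E g (al cd) = al cd from (E g).commutes cd, h2, h3, mul_zpow, ← zpow_mul,
        ← map_zpow, Units.val_mul] at h1
      have h4 : LaurentPolynomial.C (cd * ((Units.mk0 cg hcg) ^ m : Lˣ)) * LaurentPolynomial.T (n * m) =
          (LaurentPolynomial.C 1 * LaurentPolynomial.T 1 : P) := by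
        rw [map_one, one_mul, ← hψu, ← h1, map_mul, map_mul, hψal, Units.coe_map, MonoidHom.coe_coe]
        rw [map_mul ψ, show ψ (algebraMap L B _) = _ from hψal _]
        have := hψθ (LaurentPolynomial.T (n * m))
        simp only [θ, LaurentPolynomial.eval₂_T] at this
        rw [this, mul_assoc]
      have h5 : n * m = 1 := by
        rw [← LaurentPolynomial.single_eq_C_mul_T, ← LaurentPolynomial.single_eq_C_mul_T] at h4
        rcases Finsupp.single_eq_single_iff _ _ _ _ |>.1 (AddMonoidAlgebra.single_inj_iff_aux h4) with ⟨h, -⟩ | ⟨-, h⟩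
        · exact h
        · exact absurd h one_ne_zero
      exact Int.eq_one_or_neg_one_of_mul_eq_one h5
    have hh : E g u = al cg * u ∨ E g u = al cg * v := by
      rcases hn with rfl | rfl
      · left; rw [h, zpow_one]
      · right; rw [h, zpow_neg_one]; rfl
    refine ⟨cg, hal_inj ?_, hh⟩
    have h6 : E g u * s (E g u) = 1 := by
      rw [← hEs, hsu, ← map_mul, huv, map_one]
    have hsv : s v = u := by
      simp only [u, v, map_mul, map_add, map_sub, map_pow, map_ofNat, hsι, hsal, hσα, σ.commutes]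
    show al (cg * σ cg) = al 1
    simp only [al, map_one, map_mul]
    rcases hh with h | h <;> rw [h, map_mul, hsal] at h6
    · rw [hsu] at h6; linear_combination h6 - algebraMap L B cg * algebraMap L B (σ cg) * huv
    · rw [hsv] at h6; linear_combination h6 - algebraMap L B cg * algebraMap L B (σ cg) * huv
  choose cg hcg hcase using pm
  have hiter : ∀ g, E g u = al (cg g) * u → ∀ n : ℕ, E (g ^ n) u = al (cg g ^ n) * u := fun g hg n => by
    induction n with
    | zero => simp [al, hE1]
    | succ n ih =>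
      rw [pow_succ', hEmul, ih, map_mul, show E g (al _) = al _ from (E g).commutes _, hg, ← mul_assoc,
        pow_succ]
      simp [al]
  have hu_can : ∀ l l', al l * u = al l' * u → l = l' := fun l l' h => hal_inj (uu.isUnit.mul_right_cancel h)
  have hsq1 : ∀ g ∈ G, E g u = al (cg g) * u → cg g ^ 2 = 1 := fun g hg hgu => by
    obtain ⟨n, hn, hgn⟩ := (isOfFinOrder_of_finite (⟨g, hg⟩ : G)).exists_pow_eq_one
    refine pow_two_eq_one_of_finite K hK σ (cg g) (hcg g) hn (hu_can _ _ ?_)
    rw [← hiter g hgu n, show g ^ n = 1 from congrArg Subtype.val hgn, hE1]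
    simp [al]
  have hsq : ∀ g ∈ G, g ^ 2 = 1 := fun g hg => hfix _ (by
    rcases hcase g with h | h
    · rw [hiter g h 2, hsq1 g hg h]; simp [al]
    · have hv : E g v * E g u = 1 := by rw [← map_mul, mul_comm, huv, map_one]
      rw [pow_two, hEmul, h, map_mul, show E g (al _) = al _ from (E g).commutes _]
      rw [h] at hv
      linear_combination (u : B) * hv - al (cg g) * E g v * huv)
  refine ⟨hsq, ?_⟩
  have hEinj : Function.Injective fun g : G => E g.1 u := fun g h e => by
    refine Subtype.ext (inv_mul_eq_one.1 (hfix (h.1⁻¹ * g.1) ?_)).symm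
    rw [hEmul, show E g.1 u = E h.1 u from e, ← hEmul, inv_mul_cancel, hE1]
  have key2 : ∀ g ∈ G, ∀ g₀ ∈ G, E g u = al (cg g) * v → E g₀ u = al (cg g₀) * v →
      cg g = cg g₀ ∨ cg g = -cg g₀ := fun g hg g₀ hg₀ h h₀ => by
    have hv : E g v * E g u = 1 := by rw [← map_mul, mul_comm, huv, map_one]
    rw [h] at hv
    have h5 : E g (E g₀ u) = al (cg g₀) * E g v := by
      rw [h₀, map_mul, show E g (al _) = al _ from (E g).commutes _]
    rw [← hEmul] at h5
    have hne0 : al (cg g) ≠ 0 := fun h0 => by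
      rw [h0, zero_mul, mul_zero] at hv
      have h1 := congrArg ψ hv
      rw [map_zero, map_one] at h1
      exact zero_ne_one h1
    rcases hcase (g * g₀) with hpos | hneg
    · have h9 : cg g₀ = cg (g * g₀) * cg g := hu_can _ _ (by
        simp only [al, map_mul] at *
        linear_combination (-algebraMap L B (cg g₀) * u) * hv +
          (algebraMap L B (cg g₀) * algebraMap L B (cg g) * E g v) * huv +
          algebraMap L B (cg g) * (h5.symm.trans hpos))
      rcases sq_eq_one_iff.1 (hsq1 _ (mul_mem hg hg₀) hpos) with h | h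
      · left; rw [h9, h, one_mul]
      · right; rw [h9, h]; ring
    · exfalso
      have h6 : al (cg g₀) * u = al (cg g) * al (cg (g * g₀)) * v := by
        linear_combination (-al (cg g₀) * u) * hv + al (cg g₀) * al (cg g) * E g v * huv +
          (al (cg g)) * (h5.symm.trans hneg)
      have h7 := congrArg ψ h6
      rw [map_mul ψ (al (cg g₀)) u, map_mul ψ (al (cg g) * al (cg (g * g₀))) v,
        map_mul ψ (al (cg g)) (al (cg (g * g₀))), hψal, hψal, hψal, hψu,
        show ψ v = LaurentPolynomial.T (-1) by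
          have := hψθ (LaurentPolynomial.T (-1)); simpa [θ, uu] using this,
        ← map_mul, ← LaurentPolynomial.single_eq_C_mul_T, ← LaurentPolynomial.single_eq_C_mul_T] at h7
      rcases Finsupp.single_eq_single_iff _ _ _ _ |>.1 (AddMonoidAlgebra.single_inj_iff_aux h7) with ⟨h8, -⟩ | ⟨h8, -⟩
      · omega
      · have := hcg g₀; rw [h8, zero_mul] at this; exact zero_ne_one this
  let c₀ : L := if h : ∃ g ∈ G, E g u = al (cg g) * v then cg h.choose else 1
  let S : Finset B := {u, al (-1) * u, al c₀ * v, al (-c₀) * v}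
  have hS : ∀ g : G, E g.1 u ∈ S := fun g => by
    rcases hcase g.1 with h | h
    · rcases sq_eq_one_iff.1 (hsq1 _ g.2 h) with h' | h' <;> rw [h, h'] <;> simp [S, al]
    · have hex : ∃ g ∈ G, E g u = al (cg g) * v := ⟨g.1, g.2, h⟩
      rcases key2 _ g.2 _ hex.choose_spec.1 h hex.choose_spec.2 with h' | h' <;>
        rw [h, h'] <;> simp [S, c₀, dif_pos hex]
  refine (Nat.card_le_card_of_injective (fun g : G => (⟨E g.1 u, hS g⟩ : S))
    fun g h e => hEinj (congrArg Subtype.val e)).trans ?_
  rw [Nat.card_eq_fintype_card, Fintype.card_coe]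
  exact Finset.card_le_four

end Groth.Agent.ConicAutLib
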